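import Groth.Agent.Dual3Lib.PerfTest
import Groth.Agent.Dual3Lib.LpullTensorNat
import Groth.Agent.FMKLib.DualWIT
import Groth.Agent.KoszOrthLib.Detect
import Groth.Agent.S6742
import Groth.Prelude.Def_KLin
import Groth.Agent.FormalCohLib.ProjAmple

/-!
# Bounded coherence on projective space from finitely many twists
-/

set_option autoImplicit false
set_option linter.style.haveILetI false
set_option backward.isDefEq.respectTransparency false
set_option backward.isDefEq.respectTransparency.types false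
set_option maxHeartbeats 1000000
set_option synthInstance.maxHeartbeats 200000

universe u

open CategoryTheory CategoryTheory.Limits AlgebraicGeometry
open scoped ZeroObject
open Groth.Agent.Dual3Lib
open Groth.Agent.KoszOrthLib (TD OD G)

attribute [local instance] HasDerivedCategory.standard

namespace Groth.Agent.PnCohbLib

section General

variable {X Y : Scheme.{u}}

theorem isZero_HD_lpull_flat (f : X ⟶ Y) [Flat f] [DCoh.HasLpull f] (K : DCoh.D Y) (i : ℤ)
    (h : IsZero (DCoh.HD K i)) : IsZero (DCoh.HD ((DCoh.Lpull f).obj K) i) := by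
  haveI := CohGenLib.preservesFiniteLimits_pullback_flat f
  haveI : (Scheme.Modules.pullback f).PreservesHomology := inferInstance
  let P := rep K
  let e : (DCoh.Lpull f).obj K ≅ DerivedCategory.Q.obj ((KFlatLib.pullCx f).obj P) :=
    (DCoh.Lpull f).mapIso (repIso K).symm ≪≫ KFlatLib.lpullObjIso f P (rep_kFlat K)
  have hP : IsZero (P.homology i) := h.of_iso
    (((DerivedCategory.homologyFunctorFactors Y.Modules i).app P).symm ≪≫
      (DerivedCategory.homologyFunctor Y.Modules i).mapIso (repIso K))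
  exact ((Scheme.Modules.pullback f).map_isZero hP).of_iso
    ((DerivedCategory.homologyFunctor X.Modules i).mapIso e ≪≫
      (DerivedCategory.homologyFunctorFactors X.Modules i).app _ ≪≫
        (P.sc i).mapHomologyIso (Scheme.Modules.pullback f))

theorem cohbP_lpull_flat (f : X ⟶ Y) [Flat f] [DCoh.HasLpull f] {K : DCoh.D Y} (hK : SGA6.cohbP Y K) :
    SGA6.cohbP X ((DCoh.Lpull f).obj K) := by
  obtain ⟨hc, a, b, ha, hb⟩ := hK
  haveI := ha
  haveI := hb
  refine ⟨isCohD_lpull_flat f hc, a, b, (DerivedCategory.isGE_iff _ a).2 fun i hi => ?_,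
    (DerivedCategory.isLE_iff _ b).2 fun i hi => ?_⟩
  · exact isZero_HD_lpull_flat f K i (DerivedCategory.isZero_of_isGE K a i hi)
  · exact isZero_HD_lpull_flat f K i (DerivedCategory.isZero_of_isLE K b i hi)

theorem cohbP_of_iso {A B : DCoh.D X} (e : A ≅ B) (h : SGA6.cohbP X A) : SGA6.cohbP X B := by
  obtain ⟨hc, a, b, ha, hb⟩ := h
  exact ⟨isCohD_of_iso e hc, a, b, DerivedCategory.TStructure.t.isGE_of_iso e a,
    DerivedCategory.TStructure.t.isLE_of_iso e b⟩

theorem cohbP_TD {L : X.Modules} (hL : PicF.IsInvertible L) [PreservesFiniteLimits (DCoh.tensorRightMod L)]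
    [PreservesFiniteColimits (DCoh.tensorRightMod L)] {K : DCoh.D X} (h : SGA6.cohbP X K) :
    SGA6.cohbP X ((TD L).obj K) := by
  obtain ⟨hc, a, b, ha, hb⟩ := h
  haveI := ha
  haveI := hb
  have hz : ∀ i, IsZero (DCoh.HD K i) → IsZero (DCoh.HD ((TD L).obj K) i) := fun i hi =>
    ((DCoh.tensorRightMod L).map_isZero hi).of_iso
      ((DerLib.ExactHomology.homologyIso (DCoh.tensorRightMod L) i).app K)
  exact ⟨isCohD_TD hL hc, a, b,
    (DerivedCategory.isGE_iff _ a).2 fun i hi => hz i (DerivedCategory.isZero_of_isGE K a i hi),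
    (DerivedCategory.isLE_iff _ b).2 fun i hi => hz i (DerivedCategory.isZero_of_isLE K b i hi)⟩

end General

variable (k : Type u) [Field k] (n : ℕ)

noncomputable local instance overSelf : (Spec (CommRingCat.of k)).Over (Spec (CommRingCat.of k)) :=
  ⟨𝟙 _⟩

local notation "SK" => (Spec (CommRingCat.of k))

instance preservesFiniteLimits_twistOver (S : Scheme.{u}) (d : ℤ) :
    PreservesFiniteLimits (DCoh.tensorRightMod (Twist.twistOver n S d)) :=
  KoszOrthLib.preservesFiniteLimits_tensorRightMod (PicPnLib.twistOver_inv n S d)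

instance preservesFiniteColimits_twistOver (S : Scheme.{u}) (d : ℤ) :
    PreservesFiniteColimits (DCoh.tensorRightMod (Twist.twistOver n S d)) :=
  KoszOrthLib.preservesFiniteColimits_tensorRightMod (PicPnLib.twistOver_inv n S d)

theorem rpushCongr {X Y : Scheme.{u}} {f g : X ⟶ Y} [DCoh.HasRpush f] [DCoh.HasRpush g] (h : f = g) :
    Nonempty (DCoh.Rpush f ≅ DCoh.Rpush g) := by
  subst h
  exact ⟨Iso.refl _⟩

theorem isProper_toBase : IsProper ((CohB1.ProjSpaceOver n SK) ↘ SK) := by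
  haveI := (KoszOrthLib.projSpace_hyps n (ULift.{u} ℤ)).1
  exact MorphismProperty.pullback_snd (P := @IsProper) _ _ inferInstance

/-- `O ⊕ O(-1) ⊕ ⋯ ⊕ O(1-m)`. -/
noncomputable def genSum : ℕ → DCoh.D (CohB1.ProjSpace n k)
  | 0 => 0
  | e + 1 => OD n k (-(e : ℤ)) ⊞ genSum e

/-- Finitely many twists detect bounded coherence. -/
theorem cohbP_of_finite (K : DCoh.D (CohB1.ProjSpaceOver n SK)) (hK : DCoh.IsQCohD K)
    (h : ∀ d : ℕ, d ≤ n →
      (∀ i : ℤ, Module.Finite k (DCoh.inD (CohB1.ProjSpaceOver n SK) (Coh.structureModule (CohB1.ProjSpaceOver n SK)) ⟶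
        ((TD (Twist.twistOver n SK (d : ℤ))).obj K)⟦i⟧)) ∧
      Set.Finite {i : ℤ | Nontrivial (DCoh.inD (CohB1.ProjSpaceOver n SK) (Coh.structureModule (CohB1.ProjSpaceOver n SK)) ⟶
        ((TD (Twist.twistOver n SK (d : ℤ))).obj K)⟦i⟧)}) :
    SGA6.cohbP (CohB1.ProjSpaceOver n SK) K := by
  obtain ⟨j, hj, htw⟩ := PicPnLib.exists_square n k (S := SK) (𝟙 _)
  haveI : IsIso j := hj.isIso_fst_of_isIso
  have hjw : j ≫ CohB1.ProjSpaceOver.toBase n SK = CohB1.ProjSpace.toSpec n k := hj.w.trans (Category.comp_id _)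
  let σ : CohB1.ProjSpace n k ≅ CohB1.ProjSpaceOver n SK := asIso j
  let f : CohB1.ProjSpaceOver n SK ⟶ SK := CohB1.ProjSpaceOver.toBase n SK
  let π := CohB1.ProjSpace.toSpec n k
  obtain ⟨hp, -, -⟩ := KoszOrthLib.projSpace_hyps n k
  haveI := hp
  haveI : IsProper f := by
    rw [show f = σ.inv ≫ π from (Iso.eq_inv_comp σ).2 hjw]
    infer_instance
  haveI : f.IsOver SK := ⟨Category.comp_id _⟩
  haveI := DCohRestrLib.hasRpush f
  haveI := DCohRestrLib.hasRpush π
  haveI := DCohRestrLib.hasRpush σ.hom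
  haveI := DCohRestrLib.hasRpush (σ.hom ≫ f)
  haveI := KFlatLib.hasLpull f
  haveI := KFlatLib.hasLpull σ.hom
  haveI := KFlatLib.hasLpull σ.inv
  haveI := KFlatLib.hasLpull (σ.hom ≫ f)
  haveI : PreservesFiniteLimits (tilde.functor (CommRingCat.of k)) :=
    Groth.Agent.ProjFormLib.preservesFiniteLimits_tilde _
  haveI : IsNoetherianRing k := inferInstance
  obtain ⟨_, _⟩ := QRlimLib.exists_isTriangulated_rpush π
  obtain ⟨_, _⟩ := QRlimLib.exists_isTriangulated_rpush f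
  let C₀ := (DCoh.Lpull σ.hom).obj K
  have hC₀ : DCoh.IsQCohD C₀ := KFlatLib.isQCohD_lpull σ.hom K hK
  obtain ⟨eσ⟩ := nonempty_rpush_iso_lpull σ
  obtain ⟨eid⟩ := nonempty_lpull_iso_comp σ
  obtain ⟨ecomp⟩ := KFlatLib.rpush_comp σ.hom f
  have key : ∀ d : ℕ, ∀ Z : DCoh.D (CohB1.ProjSpaceOver n SK),
      Z = (TD (Twist.twistOver n SK (d : ℤ))).obj K →
      Nonempty ((G n k (d : ℤ)).obj C₀ ≅ (DCoh.Rpush f).obj Z) := by
    rintro d Z rfl
    obtain ⟨a₁⟩ := ten_inD (Twist.twistProjSpace n k (d : ℤ)) C₀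
    obtain ⟨b⟩ := htw d
    obtain ⟨a₂⟩ := FMKLib.nonempty_lpull_inD σ.hom (Twist.twistOver n SK (d : ℤ))
    let b' : DCoh.inD _ (Twist.twistProjSpace n k (d : ℤ)) ≅
        (DCoh.Lpull σ.hom).obj (DCoh.inD _ (Twist.twistOver n SK (d : ℤ))) :=
      (DerivedCategory.singleFunctor _ 0).mapIso b.symm ≪≫ a₂.symm
    obtain ⟨a₃⟩ := ten_congr (Iso.refl C₀) b'
    obtain ⟨a₄⟩ := ten_lpull σ.hom K (DCoh.inD _ (Twist.twistOver n SK (d : ℤ)))
    obtain ⟨a₅⟩ := ten_inD (Twist.twistOver n SK (d : ℤ)) K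
    let W := (TD (Twist.twistOver n SK (d : ℤ))).obj K
    let e₁ : (TD (Twist.twistProjSpace n k (d : ℤ))).obj C₀ ≅ (DCoh.Lpull σ.hom).obj W :=
      a₁.symm ≪≫ a₃ ≪≫ a₄.symm ≪≫ (DCoh.Lpull σ.hom).mapIso a₅
    haveI := DCohRestrLib.hasRpush (j ≫ f)
    let e₂ : (DCoh.Rpush π).obj ((DCoh.Lpull σ.hom).obj W) ≅
        (DCoh.Rpush (σ.hom ≫ f)).obj ((DCoh.Lpull σ.hom).obj W) :=
      (rpushCongr (show π = σ.hom ≫ f from hjw.symm)).some.app _
    exact ⟨(DCoh.Rpush π).mapIso e₁ ≪≫ e₂ ≪≫ (ecomp.app _).symm ≪≫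
      (DCoh.Rpush f).mapIso (eσ.app _ ≪≫ eid.app W)⟩
  let eu : DerivedCategory.Q.obj (PerfDualLib.unitCx (CohB1.ProjSpaceOver n SK)) ≅
      DCoh.inD (CohB1.ProjSpaceOver n SK) (Coh.structureModule (CohB1.ProjSpaceOver n SK)) :=
    ((DerivedCategory.singleFunctorIsoCompQ _ 0).app _).symm
  have hcoh : ∀ d : ℕ, d ≤ n → DCoh.IsCohD ((G n k (d : ℤ)).obj C₀) := by
    intro d hd
    let Z := (TD (Twist.twistOver n SK (d : ℤ))).obj K
    obtain ⟨e⟩ := key d Z rfl
    refine isCohD_of_iso e.symm (PerfTest.isCohD_of_finite_hom _ (QRlimLib.isQCohD_rpush f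
      (KoszOrthLib.isQCohD_TD (PicPnLib.twistOver_inv n SK d) hK)) fun i => ?_)
    haveI := (h d hd).1 i
    haveI : Module.Finite k (DerivedCategory.Q.obj (PerfDualLib.unitCx (CohB1.ProjSpaceOver n SK)) ⟶ Z⟦i⟧) :=
      KiehlLib.finite_homCongr eu.symm (Iso.refl _)
    haveI : Module.Finite k (DerivedCategory.Q.obj (PerfDualLib.unitCx SK) ⟶ (DCoh.Rpush f).obj (Z⟦i⟧)) :=
      PerfTest.finite_hom_rpush f (Z⟦i⟧)
    exact KiehlLib.finite_homCongr (X := DerivedCategory.Q.obj (PerfDualLib.unitCx SK)) (Y := (DCoh.Rpush f).obj (Z⟦i⟧)) (Iso.refl _) (((DCoh.Rpush f).commShiftIso i).app Z)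
  have hC₁ : DCoh.IsCohD C₀ := isCohD_of_twists n k hC₀ hcoh
  -- vanishing outside a finite set of degrees
  have hev : ∀ (lf : Filter ℤ), lf ≤ Filter.cofinite → ∀ d : ℕ, d ≤ n →
      ∀ᶠ i in lf, ∀ φ : OD n k (-(d : ℤ)) ⟶ C₀⟦i⟧, φ = 0 := by
    intro lf hle d hd
    refine Filter.Eventually.mono (hle (h d hd).2.compl_mem_cofinite) fun i hi φ => ?_
    haveI := not_nontrivial_iff_subsingleton.1 hi
    obtain ⟨η, hη⟩ := KoszOrthLib.exists_unit_G n k (d : ℤ)
    obtain ⟨ηf, hηf⟩ := KoszOrthLib.exists_unit_rpush f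
    refine (hη _).1 (?_ : η ≫ (G n k (d : ℤ)).map φ = η ≫ (G n k (d : ℤ)).map 0)
    let Z := (TD (Twist.twistOver n SK (d : ℤ))).obj K
    obtain ⟨e⟩ := key d Z rfl
    let e' : (G n k (d : ℤ)).obj (C₀⟦i⟧) ≅ (DCoh.Rpush f).obj (Z⟦i⟧) :=
      ((G n k (d : ℤ)).commShiftIso i).app C₀ ≪≫ (shiftFunctor _ i).mapIso e ≪≫
        (((DCoh.Rpush f).commShiftIso i).app Z).symm
    rw [← cancel_mono e'.hom]
    obtain ⟨x, hx⟩ := (hηf (Z⟦i⟧)).2 ((η ≫ (G n k (d : ℤ)).map φ) ≫ e'.hom)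
    obtain ⟨y, hy⟩ := (hηf (Z⟦i⟧)).2 ((η ≫ (G n k (d : ℤ)).map 0) ≫ e'.hom)
    rw [← hx, ← hy, Subsingleton.elim x y]
  haveI : CompactSpace ↥(CohB1.ProjSpace n k) := (FormalCohLib.isAmple_twistProjSpace n k).2.1
  haveI : QuasiSeparatedSpace ↥(CohB1.ProjSpace n k) := quasiSeparatedSpace_of_quasiSeparated π
  have hbd : ∀ lf : Filter ℤ, KoszOrthLib.GoodDir.{u} lf → lf ≤ Filter.cofinite → KoszOrthLib.EvZero lf C₀ := by
    intro lf hlf hle
    let Gs := genSum k n
    have hperf : ∀ m, DCoh.IsPerfect (Gs m) := fun m => by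
      induction m with
      | zero => exact PerfLib.isPerfect_of_isZero (isZero_zero _)
      | succ e ih =>
        exact KoszOrthLib.isPerfect_biprod
          (KoszOrthLib.isPerfect_inD_invertible (PicPnLib.twist_inv n k (-(e : ℤ)))) ih
    have hz : ∀ m, m ≤ n + 1 → ∀ᶠ i in lf, ∀ φ : Gs m ⟶ C₀⟦i⟧, φ = 0 := fun m hm => by
      induction m with
      | zero => exact Filter.Eventually.of_forall fun i φ => (isZero_zero _).eq_of_src _ _
      | succ e ih =>
        filter_upwards [hev lf hle e (by omega), ih (by omega)] with i h1 h2 φ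
        apply biprod.hom_ext'
        · rw [h1 (biprod.inl ≫ φ), comp_zero]
        · rw [h2 (biprod.inr ≫ φ), comp_zero]
    have horth : ∀ (m : ℕ) (E : DCoh.D (CohB1.ProjSpace n k)), (∀ φ : Gs m ⟶ E, φ = 0) →
        ∀ e < m, ∀ φ : OD n k (-(e : ℤ)) ⟶ E, φ = 0 := fun m => by
      induction m with
      | zero => exact fun E _ e he => absurd he (Nat.not_lt_zero e)
      | succ r ih =>
        intro E hE e he φ
        rcases Nat.lt_succ_iff_lt_or_eq.1 he with he' | rfl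
        · exact ih E (fun ψ => by
            rw [← biprod.inr_snd_assoc (X := OD n k (-(r : ℤ))) ψ, hE (biprod.snd ≫ ψ), comp_zero]) e he' φ
        · rw [← biprod.inl_fst_assoc (Y := Gs e) φ, hE (biprod.fst ≫ φ), comp_zero]
    refine (KoszOrthLib.evZero_iff_of_generator hlf (hperf (n + 1)) (fun E hE h0 =>
      KoszOrthLib.isZero_of_orth_twists n k E hE fun d hd m => horth (n + 1) (E⟦m⟧)
        ((KoszOrthLib.forall_shift_iff (Gs (n + 1)) E (-m) m (by omega)).1 fun φ => h0 (-m) φ)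
        d (Nat.lt_succ_of_le hd)) hC₀).2 ?_
    exact (hz (n + 1) le_rfl).mono fun i hi =>
      (KoszOrthLib.forall_shift_iff (Gs (n + 1)) C₀ (-i) i (by omega)).2 hi
  obtain ⟨a, ha⟩ := (KoszOrthLib.exists_isGE_iff C₀).2
    (hbd _ KoszOrthLib.goodDir_atBot Filter.atBot_le_cofinite)
  obtain ⟨b, hb⟩ := (KoszOrthLib.exists_isLE_iff C₀).2
    (hbd _ KoszOrthLib.goodDir_atTop Filter.atTop_le_cofinite)
  exact cohbP_of_iso (eid.app K) (cohbP_lpull_flat σ.inv (X := CohB1.ProjSpaceOver n SK) ⟨hC₁, a, b, ha, hb⟩)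

/-- The criterion. -/
theorem main (K : DCoh.D (CohB1.ProjSpaceOver n SK)) (hK : DCoh.IsQCohD K)
    [∀ d : ℤ, DCoh.HasLTensorMod (Twist.twistOver n SK d)] :
    SGA6.cohbP (CohB1.ProjSpaceOver n SK) K ↔
      ∀ d : ℕ, d ≤ n →
        (∀ i : ℤ, Module.Finite k (DCoh.inD (CohB1.ProjSpaceOver n SK) (Coh.structureModule (CohB1.ProjSpaceOver n SK)) ⟶
            ((DCoh.LTensorMod (Twist.twistOver n SK (d : ℤ))).obj K)⟦i⟧)) ∧
        Set.Finite {i : ℤ | Nontrivial (DCoh.inD (CohB1.ProjSpaceOver n SK) (Coh.structureModule (CohB1.ProjSpaceOver n SK)) ⟶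
            ((DCoh.LTensorMod (Twist.twistOver n SK (d : ℤ))).obj K)⟦i⟧)} := by
  constructor
  · intro hb d _
    obtain ⟨e⟩ := KoszOrthLib.nonempty_LTensorMod_iso_TD (Twist.twistOver n SK (d : ℤ))
    haveI : IsProper ((CohB1.ProjSpaceOver n SK) ↘ SK) := isProper_toBase k n
    exact Groth.Agent.S6742.result k (CohB1.ProjSpaceOver n SK) _
      (cohbP_of_iso (e.app K).symm (cohbP_TD (PicPnLib.twistOver_inv n SK d) hb)) _
      (KoszOrthLib.isPerfect_inD_unit _)
  · intro h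
    refine cohbP_of_finite k n K hK fun d hd => ?_
    obtain ⟨e⟩ := KoszOrthLib.nonempty_LTensorMod_iso_TD (Twist.twistOver n SK (d : ℤ))
    refine ⟨fun i => ?_, (h d hd).2.subset fun i hi => ?_⟩
    · haveI := (h d hd).1 i
      exact KiehlLib.finite_homCongr (Iso.refl _) ((shiftFunctor _ i).mapIso (e.app K))
    · exact (Iso.homCongr (Iso.refl _) ((shiftFunctor _ i).mapIso (e.app K))).nontrivial_congr.2 hi

end Groth.Agent.PnCohbLib
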